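import Mathlib
import Cfsg.Prelude.Def_OddOrderLocal
import Cfsg.Agent.S1394
import Cfsg.Agent.S1395
import Cfsg.Agent.S1396
import Cfsg.Agent.S0541
import Cfsg.Agent.Lib.Helper1.RankTwoLin
import Cfsg.Agent.Lib.Helper1.RankTwoSolv
import Cfsg.Agent.Lib.Helper54.NarrowMax
import Cfsg.Agent.Lib.Helper64.BG.S1411Core
import Cfsg.Agent.Lib.Helper9.BG.S1412Core
import Cfsg.Agent.Lib.Helper35.BG.Basic
import Cfsg.Agent.Lib.Helper72.BG8

/-!
# Bender–Glauberman 10.10 (the signalizer lemma), in the form used for Section 11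

* `comm_normalizer_centralizes` (T1): for a `q`-subgroup `Q` (`q` odd) of rank at most two, or
  having a subgroup `E₀` all of whose elementary abelian overgroups in `Q` have order at most
  `q ^ 2`, every element of `[N(Q), N(Q)]` of order prime to `q` centralizes `Q`.
* `signalizer_centralizes` (T2): if `A` is elementary abelian of order `p ^ 2`, equal to the set of
  elements of order dividing `p` of its centralizer, `q ≠ p` divides `|C(A)|`, and `Q` is a maximal
  `A`-invariant `q`-subgroup as in T1, then `A` centralizes `Q`.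
-/

set_option autoImplicit false

namespace Cfsg.Agent.Lib.Helper15.BG

open Cfsg

theorem mem_of_pow_mem_of_coprime {G : Type*} [Group G] [Finite G] (S : Subgroup G) (x : G)
    (m : ℕ) (h : (orderOf x).Coprime m) (hx : x ^ m ∈ S) : x ∈ S :=
  (Subgroup.zpowers_le.mpr hx) (Cfsg.Agent.Lib.Helper1.mem_zpowers_pow_of_coprime x m h)

theorem ea_subgroupOf {G : Type*} [Group G] {q : ℕ} {E : Subgroup G} (Q : Subgroup G)
    (hE : IsElementaryAbelian q E) : IsElementaryAbelian q (E.subgroupOf Q) := by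
  obtain ⟨hc, he⟩ := hE
  refine ⟨⟨⟨fun a b => ?_⟩⟩, fun a ha => ?_⟩
  · apply Subtype.ext
    apply Subtype.ext
    have := hc.is_comm.comm ⟨((a : Q) : G), Subgroup.mem_subgroupOf.mp a.2⟩
      ⟨((b : Q) : G), Subgroup.mem_subgroupOf.mp b.2⟩
    have h2 : (((a : Q) : G)) * ((b : Q) : G) = ((b : Q) : G) * ((a : Q) : G) :=
      congrArg Subtype.val this
    simpa using h2
  · apply Subtype.ext
    rw [Subgroup.coe_pow, Subgroup.coe_one]
    exact he _ (Subgroup.mem_subgroupOf.mp ha)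

theorem ea_map_subtype {G : Type*} [Group G] {q : ℕ} {Q : Subgroup G} {B : Subgroup Q}
    (hB : IsElementaryAbelian q B) : IsElementaryAbelian q (B.map Q.subtype) := by
  obtain ⟨hc, he⟩ := hB
  refine ⟨⟨⟨fun a b => ?_⟩⟩, fun a ha => ?_⟩
  · obtain ⟨a', ha', haa⟩ := a.2
    obtain ⟨b', hb', hbb⟩ := b.2
    apply Subtype.ext
    have := hc.is_comm.comm ⟨a', ha'⟩ ⟨b', hb'⟩
    have h2 : a' * b' = b' * a' := congrArg Subtype.val this
    have h3 : (a' : G) * (b' : G) = (b' : G) * (a' : G) := by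
      have := congrArg Subtype.val h2
      simpa using this
    show (a : G) * (b : G) = (b : G) * (a : G)
    rw [← haa, ← hbb]
    simpa using h3
  · obtain ⟨a', ha', rfl⟩ := ha
    have := he a' ha'
    have h2 := congrArg Subtype.val this
    simpa using h2

/-- **T1.**  Elements of `[N(Q), N(Q)]` of order prime to `q` centralize the `q`-group `Q`, when
`Q` has rank at most two or has a subgroup `E₀` whose elementary abelian overgroups in `Q` all have
order at most `q ^ 2`. -/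
theorem comm_normalizer_centralizes {G : Type*} [Group G] [Finite G] (q : ℕ) [Fact q.Prime]
    (hq : q ≠ 2) (Q : Subgroup G) (hQ : IsPGroup q Q)
    (hsolv : Group.IsSolvable (Subgroup.normalizer (Q : Set G)))
    (hodd : Odd (Nat.card (Subgroup.normalizer (Q : Set G))))
    (E₀ : Subgroup G) (hE₀Q : E₀ ≤ Q) (hE₀ : IsElementaryAbelian q E₀)
    (hb : ∀ B : Subgroup G, B ≤ Q → IsElementaryAbelian q B → E₀ ≤ B → Nat.card B ≤ q ^ 2)
    (x : G) (hx : x ∈ ⁅Subgroup.normalizer (Q : Set G), Subgroup.normalizer (Q : Set G)⁆)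
    (hxo : (orderOf x).Coprime q) :
    x ∈ Subgroup.centralizer (Q : Set G) := by
  classical
  have h4 : (commutator (Subgroup.normalizer (Q : Set G))).map
      (Subgroup.normalizer (Q : Set G)).subtype
      = ⁅Subgroup.normalizer (Q : Set G), Subgroup.normalizer (Q : Set G)⁆ := by
    rw [commutator_def, Subgroup.map_commutator, ← MonoidHom.range_eq_map,
      Subgroup.range_subtype]
  rw [← h4] at hx
  obtain ⟨x', hx', rfl⟩ := hx
  have hxo' : (orderOf (x' : G)).Coprime q := hxo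
  have key : ∃ n : ℕ, (x' : G) ^ q ^ n ∈ Subgroup.centralizer (Q : Set G) := by
    by_cases hr : Cfsg.PRankLE q 2 Q
    · obtain ⟨φ, hφ⟩ := Cfsg.Agent.Lib.Helper1.exists_linearization hq Q
        (Subgroup.normalizer (Q : Set G)) hQ hr le_rfl
      haveI := hsolv
      obtain ⟨n, hn⟩ := Cfsg.Agent.Lib.Helper1.map_commutator_isPGroup hq hodd φ x' hx'
      refine ⟨n, ?_⟩
      have h5 := hφ _ hn ?_
      · rwa [Subgroup.coe_pow] at h5
      · have : orderOf ((x' ^ q ^ n : Subgroup.normalizer (Q : Set G)) : G) ∣ orderOf (x' : G) := by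
          rw [Subgroup.coe_pow]; exact orderOf_pow_dvd _
        exact Nat.Coprime.coprime_dvd_left this hxo'
    · have hb' : ∀ B : Subgroup Q, IsElementaryAbelian q B → E₀.subgroupOf Q ≤ B →
          Nat.card B ≤ q ^ 2 := by
        intro B hB hEB
        have h6 := hb (B.map Q.subtype) (Subgroup.map_subtype_le B) (ea_map_subtype hB) ?_
        · rwa [← Nat.card_congr
            (B.equivMapOfInjective Q.subtype Q.subtype_injective).toEquiv] at h6
        · intro y hy
          exact ⟨⟨y, hE₀Q hy⟩, hEB (Subgroup.mem_subgroupOf.mpr hy), rfl⟩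
      obtain ⟨Nn, hNn, hcomm, -, hpow⟩ := Cfsg.Agent.Lib.Helper54.narrow_action_of_bound q hq hQ hr
        (E₀.subgroupOf Q) (ea_subgroupOf Q hE₀) hb' (Q.normalizerMonoidHom)
      have hx'' : x' ∈ Nn := by
        have : commutator (Subgroup.normalizer (Q : Set G)) ≤ Nn := by
          rw [commutator_def, Subgroup.commutator_le]
          intro a _ b _
          exact hcomm a b
        exact this hx'
      obtain ⟨k, hk⟩ := hpow x' hx''
      refine ⟨k, ?_⟩
      have h7 : x' ^ q ^ k ∈ (Q.normalizerMonoidHom).ker := hk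
      rw [Subgroup.normalizerMonoidHom_ker, Subgroup.mem_subgroupOf, Subgroup.coe_pow] at h7
      exact h7
  obtain ⟨n, hn⟩ := key
  exact mem_of_pow_mem_of_coprime _ _ (q ^ n) (Nat.Coprime.pow_right n hxo') hn

theorem isPGroup_of_mem_invSubgroups {G : Type*} [Group G] [Finite G] {q : ℕ} [hq : Fact q.Prime]
    {H A Q : Subgroup G} (hQ : Q ∈ invSubgroups H A {q}) : IsPGroup q Q := by
  obtain ⟨-, hπ, -⟩ := hQ
  have h1 : Nat.card Q = q ^ (Nat.card Q).primeFactorsList.length :=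
    Nat.eq_prime_pow_of_unique_prime_dvd Nat.card_pos.ne' (fun {d} hd hdvd => hπ d hd hdvd)
  exact IsPGroup.of_card h1

theorem exists_maxInv {G : Type*} [Group G] [Finite G] (S : Subgroup G) (q : ℕ) :
    ∃ Q₁ : Subgroup G, Q₁ ∈ maxInvSubgroups ⊤ S {q} := by
  have h0 : (⊥ : Subgroup G) ∈ invSubgroups ⊤ S {q} := by
    refine ⟨bot_le, ?_, ?_⟩
    · intro r hr hdvd
      rw [Subgroup.card_bot] at hdvd
      exact absurd (Nat.dvd_one.mp hdvd) hr.ne_one
    · intro x _
      rw [Subgroup.mem_normalizer_iff]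
      intro h
      simp
  obtain ⟨Q₁, -, hQ₁, hmax⟩ := Finite.exists_le_maximal
    (p := fun Y : Subgroup G => Y ∈ invSubgroups ⊤ S {q}) (a := ⊥) h0
  exact ⟨Q₁, hQ₁, fun R hR hQR => le_antisymm (hmax hR hQR) hQR⟩

/-- **T2** (Bender–Glauberman 10.10, signalizer lemma). -/
theorem signalizer_centralizes {G : Type*} [Group G] [Finite G] (hG : IsMinSimpleOddOrder G)
    (p q : ℕ) [hp : Fact p.Prime] [hq : Fact q.Prime] (hpq : p ≠ q)
    (h1410 : ∀ H : Subgroup G, H ≠ ⊤ → PLengthLE p 1 H)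
    (A : Subgroup G) (hAe : IsElementaryAbelian p A) (hA2 : Nat.card A = p ^ 2)
    (hAmax : ∀ x ∈ Subgroup.centralizer (A : Set G), x ^ p = 1 → x ∈ A)
    (hqC : q ∣ Nat.card (Subgroup.centralizer (A : Set G)))
    (Q : Subgroup G) (hQ : Q ∈ maxInvSubgroups ⊤ A {q})
    (E₀ : Subgroup G) (hE₀Q : E₀ ≤ Q) (hE₀ : IsElementaryAbelian q E₀)
    (hb : ∀ B : Subgroup G, B ≤ Q → IsElementaryAbelian q B → E₀ ≤ B → Nat.card B ≤ q ^ 2) :
    A ≤ Subgroup.centralizer (Q : Set G) := by
  classical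
  have hpp : p.Prime := hp.out
  have hqp : q.Prime := hq.out
  have hQq : IsPGroup q Q := isPGroup_of_mem_invSubgroups hQ.1
  by_cases hQ1 : Q = ⊥
  · intro a _
    rw [hQ1, Subgroup.mem_centralizer_iff]
    intro h hh
    rw [Subgroup.coe_bot, Set.mem_singleton_iff] at hh
    rw [hh]; simp
  have hq2 : q ≠ 2 := by
    rintro rfl
    have h1 : 2 ∣ Nat.card G := hqC.trans (Subgroup.card_subgroup_dvd_card _)
    exact (Nat.not_even_iff_odd.mpr hG.1) (even_iff_two_dvd.mpr h1)
  have hAp : IsPGroup p A := IsPGroup.of_card hA2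
  have hAc : IsMulCommutative A := hAe.1
  have hcomm : ∀ a ∈ A, ∀ b ∈ A, a * b = b * a := fun a ha b hb =>
    congrArg Subtype.val (hAc.is_comm.comm ⟨a, ha⟩ ⟨b, hb⟩)
  have hpG : p ∣ Nat.card G :=
    (Dvd.intro_left p (by rw [hA2]; ring : p * p = Nat.card A)).trans
      (Subgroup.card_subgroup_dvd_card A)
  have hTH : TransitivityHypothesis A :=
    Cfsg.Agent.S1396.result hG p hpG A hAp hAc
      (Or.inl ⟨fun x hx => ⟨hAmax x hx, fun hxA => hAe.2 x hxA⟩, h1410⟩)
  have hqA : ¬ q ∣ Nat.card A := by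
    rw [hA2]
    intro h
    exact hpq ((Nat.prime_dvd_prime_iff_eq hqp hpp).mp (hqp.dvd_of_dvd_pow h)).symm
  have hAC : A ≤ Subgroup.centralizer (A : Set G) := by
    intro a ha
    rw [Subgroup.mem_centralizer_iff]
    intro b hb
    exact hcomm b hb a ha
  have hZ : ¬ RankLE 1 ↥(A ⊓ Subgroup.centralizer (A : Set G)) := by
    intro h
    have h1 := h p hpp ⊤ ⟨⟨fun a b => Subtype.ext (Subtype.ext
      (hcomm _ (a : ↥(A ⊓ Subgroup.centralizer (A : Set G))).2.1 _
        (b : ↥(A ⊓ Subgroup.centralizer (A : Set G))).2.1))⟩⟩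
      (fun a _ => Subtype.ext (by
        rw [Subgroup.coe_pow, Subgroup.coe_one]; exact hAe.2 _ a.2.1))
    have heq : A ⊓ Subgroup.centralizer (A : Set G) = A :=
      le_antisymm inf_le_left (le_inf le_rfl hAC)
    have h2 : Nat.card (⊤ : Subgroup ↥(A ⊓ Subgroup.centralizer (A : Set G))) = p ^ 2 := by
      rw [Subgroup.card_top, heq, hA2]
    rw [h2, pow_one] at h1
    have h3 : p * 2 ≤ p * p := Nat.mul_le_mul_left p hpp.two_le
    nlinarith [hpp.two_le]
  have htr := Cfsg.Agent.S1394.result hG A hTH hZ q hqp hqA hqC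
  obtain ⟨S, hAS⟩ := hAp.exists_le_sylow
  have hSp : IsPGroup p (S : Subgroup G) := S.isPGroup'
  have hS : (S : Subgroup G) ≠ ⊤ := Cfsg.Agent.Lib.Helper72.BG8.isPGroup_ne_top hG hSp
  obtain ⟨V, hV, -⟩ := Cfsg.Agent.Lib.Helper9.BG.exists_isComplIn_of_normal_sylow S
    (Subgroup.normalizer ((S : Subgroup G) : Set G)) Subgroup.le_normalizer
    Subgroup.normal_in_normalizer
  have h1411 := Cfsg.Agent.Lib.Helper64.BG.s1411_core hG p h1410 S V hV
  obtain ⟨Q₁, hQ₁⟩ := exists_maxInv (S : Subgroup G) q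
  have hPπ : ∀ r : ℕ, r.Prime → r ∣ Nat.card (S : Subgroup G) → r ∣ Nat.card A := by
    intro r hr hdvd
    obtain ⟨n, hn⟩ := IsPGroup.iff_card.mp hSp
    rw [hn] at hdvd
    have : r = p := (Nat.prime_dvd_prime_iff_eq hr hpp).mp (hr.dvd_of_dvd_pow hdvd)
    rw [this, hA2]
    exact Dvd.intro_left p (by ring)
  have hsn : (A.subgroupOf (S : Subgroup G)).IsSubnormal := by
    haveI : Group.IsNilpotent (S : Subgroup G) := hSp.isNilpotent
    exact Cfsg.Agent.S0541.isSubnormal_of_isNilpotent _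
  obtain ⟨-, -, hsub, hd⟩ :=
    Cfsg.Agent.S1395.result hG A hTH q hqp hqA (S : Subgroup G) hS hPπ hAS hsn htr
  obtain ⟨k, hk, hQk⟩ := htr Q₁ (hsub hQ₁) Q hQ
  have hkC : k ∈ Subgroup.centralizer (A : Set G) := Subgroup.map_subtype_le _ hk
  have hSQ₁ : (S : Subgroup G) ≤ ⁅Subgroup.normalizer (Q₁ : Set G),
      Subgroup.normalizer (Q₁ : Set G)⁆ := fun s hs => (hd Q₁ hQ₁).1 ⟨hs, h1411.2 hs⟩
  have hNQ : Subgroup.normalizer (Q : Set G) ≠ ⊤ :=
    Cfsg.Agent.Lib.Helper72.BG8.normalizer_ne_top_of_isPGroup hG hQq hQ1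
  intro a ha
  have hak : k * a * k⁻¹ = a := by
    have := (Subgroup.mem_centralizer_iff.mp hkC) a ha
    rw [← this]; group
  have ha' : a ∈ ⁅Subgroup.normalizer (Q : Set G), Subgroup.normalizer (Q : Set G)⁆ := by
    rw [hQk, Cfsg.Agent.Lib.Helper35.BG.normalizer_map_conj, ← Subgroup.map_commutator]
    refine ⟨a, hSQ₁ (hAS ha), ?_⟩
    show k * a * k⁻¹ = a
    exact hak
  have hao : (orderOf a).Coprime q := by
    have h1 : orderOf a ∣ p := orderOf_dvd_of_pow_eq_one (hAe.2 a ha)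
    exact Nat.Coprime.coprime_dvd_left h1 ((Nat.coprime_primes hpp hqp).mpr hpq)
  exact comm_normalizer_centralizes q hq2 Q hQq (hG.2.2.2 _ hNQ)
    (Odd.of_dvd_nat hG.1 (Subgroup.card_subgroup_dvd_card _)) E₀ hE₀Q hE₀ hb a ha' hao

/-- Adjoining a centralizing element of order dividing `p` to an elementary abelian `p`-subgroup
gives an elementary abelian `p`-subgroup. -/
theorem ea_sup_zpowers_of_centralizes {G : Type*} [Group G] {p : ℕ} {A : Subgroup G}
    (hAe : IsElementaryAbelian p A) (x : G) (hxC : x ∈ Subgroup.centralizer (A : Set G))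
    (hxp : x ^ p = 1) : IsElementaryAbelian p (A ⊔ Subgroup.zpowers x) := by
  have hcA : ∀ a ∈ A, ∀ b ∈ A, a * b = b * a := fun a ha b hb =>
    congrArg Subtype.val (hAe.1.is_comm.comm ⟨a, ha⟩ ⟨b, hb⟩)
  have hcx : ∀ a ∈ A, a * x = x * a := fun a ha => (Subgroup.mem_centralizer_iff.mp hxC) a ha
  have hgen : ∀ s : G, (∀ a ∈ A, a * s = s * a) → x * s = s * x →
      A ⊔ Subgroup.zpowers x ≤ Subgroup.centralizer ({s} : Set G) := by
    intro s hs1 hs2
    apply sup_le
    · intro a ha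
      rw [Subgroup.mem_centralizer_iff]
      intro t ht
      rw [Set.mem_singleton_iff] at ht
      rw [ht]
      exact (hs1 a ha).symm
    · rw [Subgroup.zpowers_le, Subgroup.mem_centralizer_iff]
      intro t ht
      rw [Set.mem_singleton_iff] at ht
      rw [ht]
      exact hs2.symm
  have hgen' : ∀ s : G, (∀ a ∈ A, a * s = s * a) → x * s = s * x →
      ∀ b ∈ A ⊔ Subgroup.zpowers x, b * s = s * b := by
    intro s hs1 hs2 b hb
    have := (Subgroup.mem_centralizer_iff.mp (hgen s hs1 hs2 hb)) s rfl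
    exact this.symm
  have hcomm : ∀ a ∈ A ⊔ Subgroup.zpowers x, ∀ b ∈ A ⊔ Subgroup.zpowers x, a * b = b * a := by
    intro a ha b hb
    have h1 : ∀ a' ∈ A, a' * a = a * a' := fun a' ha' =>
      (hgen' a' (fun a'' ha'' => hcA a'' ha'' a' ha') (hcx a' ha').symm a ha).symm
    have h2 : x * a = a * x := (hgen' x hcx rfl a ha).symm
    exact (hgen' a h1 h2 b hb).symm
  refine ⟨⟨⟨fun a b => Subtype.ext (hcomm a a.2 b b.2)⟩⟩, ?_⟩
  let Ep : Subgroup G :=
    { carrier := {g | g ∈ A ⊔ Subgroup.zpowers x ∧ g ^ p = 1}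
      mul_mem' := by
        rintro a b ⟨ha, ha'⟩ ⟨hb, hb'⟩
        refine ⟨Subgroup.mul_mem _ ha hb, ?_⟩
        have hcm : Commute a b := hcomm a ha b hb
        rw [hcm.mul_pow, ha', hb', one_mul]
      one_mem' := ⟨Subgroup.one_mem _, one_pow _⟩
      inv_mem' := by
        rintro a ⟨ha, ha'⟩
        exact ⟨Subgroup.inv_mem _ ha, by rw [inv_pow, ha', inv_one]⟩ }
  have hle : A ⊔ Subgroup.zpowers x ≤ Ep := by
    apply sup_le
    · intro a ha
      exact ⟨(le_sup_left : A ≤ A ⊔ Subgroup.zpowers x) ha, hAe.2 a ha⟩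
    · rw [Subgroup.zpowers_le]
      exact ⟨(le_sup_right : Subgroup.zpowers x ≤ A ⊔ Subgroup.zpowers x)
        (Subgroup.mem_zpowers x), hxp⟩
  intro a ha
  exact (hle ha).2

/-- A maximal elementary abelian `p`-subgroup contains every element of order dividing `p` of its
centralizer. -/
theorem mem_of_ea_max {G : Type*} [Group G] {p : ℕ} {A : Subgroup G}
    (hAe : IsElementaryAbelian p A)
    (hAmax : ∀ B : Subgroup G, IsElementaryAbelian p B → A ≤ B → B = A)
    (x : G) (hxC : x ∈ Subgroup.centralizer (A : Set G)) (hxp : x ^ p = 1) : x ∈ A := by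
  have h := hAmax _ (ea_sup_zpowers_of_centralizes hAe x hxC hxp) le_sup_left
  rw [← h]
  exact (le_sup_right : Subgroup.zpowers x ≤ A ⊔ Subgroup.zpowers x) (Subgroup.mem_zpowers x)

theorem ea_of_card_eq_prime {G : Type*} [Group G] {q : ℕ} [hq : Fact q.Prime] {X : Subgroup G}
    (hX : Nat.card X = q) : IsElementaryAbelian q X := by
  haveI : Finite X := Nat.finite_of_card_ne_zero (by rw [hX]; exact hq.out.ne_zero)
  have hc : IsCyclic X := isCyclic_of_prime_card hX
  refine ⟨⟨⟨fun a b => ?_⟩⟩, fun a ha => ?_⟩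
  · obtain ⟨g, hg⟩ := hc.exists_generator
    obtain ⟨m, rfl⟩ := Subgroup.mem_zpowers_iff.mp (hg a)
    obtain ⟨n, rfl⟩ := Subgroup.mem_zpowers_iff.mp (hg b)
    rw [← zpow_add, ← zpow_add, add_comm]
  · have := pow_card_eq_one' (G := X) (x := ⟨a, ha⟩)
    rw [hX] at this
    exact congrArg Subtype.val this

/-- **T2 + T3**, in the shape used for Bender–Glauberman Section 11: `A` a maximal elementary
abelian `p`-subgroup of order `p ^ 2`, `q ≠ p` dividing `|C(A)|`, `Q` a maximal `A`-invariant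
`q`-subgroup having a subgroup `W₀` of order `q` with `C_Q(W₀)` of `q`-rank at most two.  Then `A`
centralizes `Q`. -/
theorem signalizer_centralizes_of_rank {G : Type*} [Group G] [Finite G]
    (hG : IsMinSimpleOddOrder G)
    (p q : ℕ) [hp : Fact p.Prime] [hq : Fact q.Prime] (hpq : p ≠ q)
    (h1410 : ∀ H : Subgroup G, H ≠ ⊤ → PLengthLE p 1 H)
    (A : Subgroup G) (hAe : IsElementaryAbelian p A) (hA2 : Nat.card A = p ^ 2)
    (hAmax : ∀ B : Subgroup G, IsElementaryAbelian p B → A ≤ B → B = A)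
    (hqC : q ∣ Nat.card (Subgroup.centralizer (A : Set G)))
    (Q : Subgroup G) (hQ : Q ∈ maxInvSubgroups ⊤ A {q})
    (W₀ : Subgroup G) (hW₀Q : W₀ ≤ Q) (hW₀ : Nat.card W₀ = q)
    (hr : PRankLE q 2 ↥(Q ⊓ Subgroup.centralizer (W₀ : Set G))) :
    A ≤ Subgroup.centralizer (Q : Set G) := by
  refine signalizer_centralizes hG p q hpq h1410 A hAe hA2 (mem_of_ea_max hAe hAmax) hqC Q hQ
    W₀ hW₀Q (ea_of_card_eq_prime hW₀) ?_
  intro B hBQ hBe hWB
  have hBle : B ≤ Q ⊓ Subgroup.centralizer (W₀ : Set G) := by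
    refine le_inf hBQ (fun b hb => ?_)
    rw [Subgroup.mem_centralizer_iff]
    intro w hw
    exact congrArg Subtype.val (hBe.1.is_comm.comm ⟨w, hWB hw⟩ ⟨b, hb⟩)
  have h := hr (B.subgroupOf (Q ⊓ Subgroup.centralizer (W₀ : Set G)))
    (ea_subgroupOf _ hBe).1 (ea_subgroupOf _ hBe).2
  rwa [Nat.card_congr (Subgroup.subgroupOfEquivOfLe hBle).toEquiv] at h

end Cfsg.Agent.Lib.Helper15.BG
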