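import Mathlib
import Cfsg.Prelude.Def_OddOrderLocal
import Cfsg.Statements.S1350
import Cfsg.Statements.S1403
import Cfsg.Statements.S1405
import Cfsg.Statements.S1408
import Cfsg.Statements.S1409
import Cfsg.Statements.S1410
import Cfsg.Statements.S1415
import Cfsg.Agent.Lib.Helper15.BG.Signalizer
import Cfsg.Agent.Lib.Helper98.BG.T5
import Cfsg.Agent.Lib.Helper80.BG.PkgD
import Cfsg.Agent.Lib.Helper57.BG.PkgE
import Cfsg.Agent.Lib.Helper1.Commutator
import Cfsg.Agent.Lib.Helper47.BG.SigmaNe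
import Cfsg.Agent.Lib.Helper57.BG.S1361Core
import Cfsg.Agent.Lib.Helper61.CoprimeAb
import Cfsg.Agent.Lib.Helper67.BG.Basics
import Cfsg.Agent.Lib.Helper75.BGUtil
import Cfsg.Agent.Lib.Helper76.BG.S1420Core
import Cfsg.Agent.Lib.Helper78.BG.S1405Core
import Cfsg.Agent.Lib.Helper97.HHSylow

/-!
# Bender–Glauberman Lemma 11.7: `M_σ A` is normal in an exceptional maximal subgroup `M`

`M` is *exceptional* for `(p, A, A₀)` if `p ∉ σ(M)`, `A ≤ M` is elementary abelian of order `p ^ 2`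
and `A₀ ≤ A` has order `p` with `N_G(A₀) ≤ M`.  Taking Lemma 11.5 (Sylow `p`-subgroups of `M`
abelian) and the existence of two points of `A` acting fixed-point-freely on `M_σ` (11.2/11.6) as
hypotheses for the fixed `M`, we prove `M ≤ N(M_σ A)` by downward induction on `p`.
-/

set_option autoImplicit false

namespace Cfsg.Agent.Lib.Helper15.BG

open Cfsg

/-! ### Generic lemmas -/

/-- Two subgroups normalizing each other with trivial intersection commute elementwise. -/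
theorem commute_of_normalize_of_inf_eq_bot {G : Type*} [Group G] {H K : Subgroup G}
    (hHK : H ≤ Subgroup.normalizer (K : Set G)) (hKH : K ≤ Subgroup.normalizer (H : Set G))
    (hd : H ⊓ K = ⊥) : ∀ h ∈ H, ∀ k ∈ K, h * k = k * h := by
  intro h hh k hk
  have h1 : h * k * h⁻¹ * k⁻¹ ∈ H ⊓ K := by
    refine Subgroup.mem_inf.mpr ⟨?_, ?_⟩
    · have h3 : k * h⁻¹ * k⁻¹ ∈ H :=
        (Subgroup.mem_normalizer_iff.mp (hKH hk) h⁻¹).mp (H.inv_mem hh)
      have h2 : h * k * h⁻¹ * k⁻¹ = h * (k * h⁻¹ * k⁻¹) := by group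
      rw [h2]; exact H.mul_mem hh h3
    · have h3 : h * k * h⁻¹ ∈ K := (Subgroup.mem_normalizer_iff.mp (hHK hh) k).mp hk
      exact K.mul_mem h3 (K.inv_mem hk)
  rw [hd, Subgroup.mem_bot] at h1
  calc h * k = (h * k * h⁻¹ * k⁻¹) * (k * h) := by group
    _ = k * h := by rw [h1, one_mul]

theorem map_conj_eq_of_mem_normalizer {G : Type*} [Group G] {H : Subgroup G} {g : G}
    (hg : g ∈ Subgroup.normalizer (H : Set G)) : H.map (MulAut.conj g).toMonoidHom = H := by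
  ext x
  rw [Cfsg.Agent.Lib.Helper35.BG.mem_map_conj_iff]
  have h1 := Subgroup.mem_normalizer_iff.mp hg (g⁻¹ * x * g)
  have h2 : g * (g⁻¹ * x * g) * g⁻¹ = x := by group
  rw [h2] at h1
  exact h1

theorem mem_normalizer_sup {G : Type*} [Group G] {H K : Subgroup G} {g : G}
    (hH : g ∈ Subgroup.normalizer (H : Set G)) (hK : g ∈ Subgroup.normalizer (K : Set G)) :
    g ∈ Subgroup.normalizer ((H ⊔ K : Subgroup G) : Set G) := by
  apply Cfsg.Agent.Lib.Helper35.BG.mem_normalizer_of_map_conj_eq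
  rw [Subgroup.map_sup, map_conj_eq_of_mem_normalizer hH, map_conj_eq_of_mem_normalizer hK]

theorem mem_normalizer_inf {G : Type*} [Group G] {H K : Subgroup G} {g : G}
    (hH : g ∈ Subgroup.normalizer (H : Set G)) (hK : g ∈ Subgroup.normalizer (K : Set G)) :
    g ∈ Subgroup.normalizer ((H ⊓ K : Subgroup G) : Set G) := by
  apply Cfsg.Agent.Lib.Helper35.BG.mem_normalizer_of_map_conj_eq
  rw [Subgroup.map_inf _ _ _ (MulAut.conj g).injective, map_conj_eq_of_mem_normalizer hH,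
    map_conj_eq_of_mem_normalizer hK]

theorem exists_maxInv_ge {G : Type*} [Group G] [Finite G] (S : Subgroup G) (q : ℕ)
    (Y : Subgroup G) (hY : Y ∈ invSubgroups ⊤ S {q}) :
    ∃ Q ∈ maxInvSubgroups ⊤ S {q}, Y ≤ Q := by
  obtain ⟨Q₁, hle, hQ₁, hmax⟩ := Finite.exists_le_maximal
    (p := fun Y : Subgroup G => Y ∈ invSubgroups ⊤ S {q}) (a := Y) hY
  exact ⟨Q₁, ⟨hQ₁, fun R hR hQR => le_antisymm (hmax hR hQR) hQR⟩, hle⟩

/-- Two distinct subgroups of order `p` of a group `A` of order `p ^ 2` with trivial fixed points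
on `N` give two generators of `A` of order `p` acting fixed-point-freely on `N`. -/
theorem exists_fpf_gens {G : Type*} [Group G] [Finite G] {N A : Subgroup G} {p : ℕ}
    [hp : Fact p.Prime] (hA2 : Nat.card A = p ^ 2)
    (h : ∃ B₁ B₂ : Subgroup G, B₁ ≤ A ∧ B₂ ≤ A ∧ Nat.card B₁ = p ∧ Nat.card B₂ = p ∧ B₁ ≠ B₂ ∧
        N ⊓ Subgroup.centralizer (B₁ : Set G) = ⊥ ∧ N ⊓ Subgroup.centralizer (B₂ : Set G) = ⊥) :
    ∃ a₁ a₂ : G, a₁ ∈ A ∧ a₂ ∈ A ∧ orderOf a₁ = p ∧ orderOf a₂ = p ∧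
      (∀ y ∈ N, a₁ * y = y * a₁ → y = 1) ∧ (∀ y ∈ N, a₂ * y = y * a₂ → y = 1) ∧
      A = Subgroup.zpowers a₁ ⊔ Subgroup.zpowers a₂ := by
  obtain ⟨B₁, B₂, hB₁, hB₂, hc₁, hc₂, hne, hf₁, hf₂⟩ := h
  have hpp := hp.out
  have gen : ∀ B : Subgroup G, Nat.card B = p →
      ∃ b : G, b ∈ B ∧ orderOf b = p ∧ Subgroup.zpowers b = B := by
    intro B hB
    have hnt : Nontrivial B :=
      Finite.one_lt_card_iff_nontrivial.mp (by rw [hB]; exact hpp.one_lt)
    obtain ⟨⟨b, hb⟩, hb1⟩ := exists_ne (1 : B)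
    have hb1' : b ≠ 1 := fun h => hb1 (Subtype.ext h)
    have hz : Subgroup.zpowers b = B := by
      apply Subgroup.eq_of_le_of_card_ge (by rw [Subgroup.zpowers_le]; exact hb)
      rw [hB, Nat.card_zpowers]
      have h1 : orderOf b ∣ p := by
        have h2 := orderOf_dvd_natCard (⟨b, hb⟩ : B)
        rw [hB, Subgroup.orderOf_mk] at h2
        exact h2
      rcases (Nat.dvd_prime hpp).mp h1 with h2 | h2
      · exact absurd (orderOf_eq_one_iff.mp h2) hb1'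
      · exact h2.ge
    refine ⟨b, hb, ?_, hz⟩
    rw [← Nat.card_zpowers, hz, hB]
  obtain ⟨a₁, ha₁, ho₁, hz₁⟩ := gen B₁ hc₁
  obtain ⟨a₂, ha₂, ho₂, hz₂⟩ := gen B₂ hc₂
  have fp : ∀ (B : Subgroup G) (b : G), Subgroup.zpowers b = B →
      N ⊓ Subgroup.centralizer (B : Set G) = ⊥ → ∀ y ∈ N, b * y = y * b → y = 1 := by
    intro B b hz hf y hy hc
    have h1 : y ∈ N ⊓ Subgroup.centralizer (B : Set G) := by
      refine Subgroup.mem_inf.mpr ⟨hy, ?_⟩
      rw [Subgroup.mem_centralizer_iff]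
      intro h hh
      rw [← hz] at hh
      obtain ⟨k, rfl⟩ := Subgroup.mem_zpowers_iff.mp hh
      exact (Commute.zpow_left (show Commute b y from hc) k)
    rw [hf] at h1
    exact Subgroup.mem_bot.mp h1
  refine ⟨a₁, a₂, hB₁ ha₁, hB₂ ha₂, ho₁, ho₂, fp B₁ a₁ hz₁ hf₁, fp B₂ a₂ hz₂ hf₂, ?_⟩
  rw [hz₁, hz₂]
  symm
  apply Subgroup.eq_of_le_of_card_ge (sup_le hB₁ hB₂)
  rw [hA2]
  have hlt : B₁ < B₁ ⊔ B₂ := by
    refine lt_of_le_of_ne le_sup_left ?_
    intro h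
    have h2 : B₂ ≤ B₁ := by rw [h]; exact le_sup_right
    exact hne (Subgroup.eq_of_le_of_card_ge h2 (by rw [hc₁, hc₂])).symm
  have hcard_lt := Cfsg.Agent.Lib.Helper35.BG.card_lt_of_lt hlt
  rw [hc₁] at hcard_lt
  have hdvd : Nat.card ↥(B₁ ⊔ B₂) ∣ p ^ 2 := by
    rw [← hA2]; exact Subgroup.card_dvd_of_le (sup_le hB₁ hB₂)
  obtain ⟨k, hk, hkeq⟩ := (Nat.dvd_prime_pow hpp).mp hdvd
  rw [hkeq] at hcard_lt ⊢
  have hk2 : k = 2 := by
    interval_cases k
    · simp at hcard_lt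
      have := hpp.one_lt
      omega
    · simp at hcard_lt
    · rfl
  rw [hk2]

/-! ### The context -/

/-- Hypothesis 11.1 of Bender–Glauberman. -/
structure Exc {G : Type*} [Group G] (M : Subgroup G) (p : ℕ) (A A₀ : Subgroup G) : Prop where
  nsig : p ∉ sigma M
  le : A ≤ M
  ea : IsElementaryAbelian p A
  card : Nat.card A = p ^ 2
  le₀ : A₀ ≤ A
  card₀ : Nat.card A₀ = p
  norm : Subgroup.normalizer (A₀ : Set G) ≤ M

/-- The statement of tool T4 for `M`: a nontrivial normal `q`-subgroup `Y` of `M`, `q ∉ σ(M)`, is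
cyclic, its subgroup `W₀` of order `q` is normal in `M` and lies in every elementary abelian
subgroup of order `q ^ 2` of `M`, and the Sylow `q`-subgroups of `M` are abelian. -/
def T4Stmt {G : Type*} [Group G] (M : Subgroup G) : Prop :=
  ∀ (q : ℕ) [Fact q.Prime], q ∉ sigma M → ∀ Y : Subgroup G, Y ≤ M → Y ≠ ⊥ → IsPGroup q Y →
    M ≤ Subgroup.normalizer (Y : Set G) →
    IsCyclic Y ∧ ∃ W₀ : Subgroup G, W₀ ≤ Y ∧ Nat.card W₀ = q ∧
      M ≤ Subgroup.normalizer (W₀ : Set G) ∧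
      (∀ B : Subgroup G, B ≤ M → IsElementaryAbelian q B → Nat.card B = q ^ 2 → W₀ ≤ B) ∧
      (∃ B : Subgroup G, B ≤ M ∧ IsElementaryAbelian q B ∧ Nat.card B = q ^ 2) ∧
      (∀ P : Sylow q M, IsMulCommutative (P : Subgroup M)) ∧
      (∀ U : Subgroup G, U ≤ Y → U ≠ ⊥ → W₀ ≤ U)

/-- The statement of package B (an application of S1445) for the group `G`: an element `a` of
prime order `p` acting fixed-point-freely on `N` centralizes every `q`-subgroup `R` it normalizes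
that acts faithfully on `N` (`q ≠ p`, `p, q ∤ |N|`, everything inside a solvable subgroup `X` of
odd order). -/
def PkgBStmt (G : Type*) [Group G] : Prop :=
  ∀ (X N R : Subgroup G) (a : G), Group.IsSolvable X → Odd (Nat.card X) → N ≤ X → R ≤ X → a ∈ X →
    ∀ {p q : ℕ}, p.Prime → ∀ [Fact q.Prime], p ≠ q → orderOf a = p →
    a ∈ Subgroup.normalizer (N : Set G) → R ≤ Subgroup.normalizer (N : Set G) →
    a ∈ Subgroup.normalizer (R : Set G) → IsPGroup q R → ¬ q ∣ Nat.card N → ¬ p ∣ Nat.card N →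
    (∀ y ∈ N, a * y = y * a → y = 1) → R ⊓ Subgroup.centralizer (N : Set G) = ⊥ →
    ∀ r ∈ R, a * r = r * a

/-- The facts about a fixed maximal subgroup `M` used in the proof of 11.7. -/
structure Ctx {G : Type*} [Group G] [Finite G] (M : Subgroup G) : Prop where
  hG : IsMinSimpleOddOrder G
  hM : IsCoatom M
  hall : IsPiHallOf (sigma M) (sigmaCore M) M
  halpha : ∀ q ∈ alpha M, q ∈ sigma M
  hne : sigmaCore M ≠ ⊥
  h1408 : type_of% (@Cfsg.CfsgFrozen.S1408 G _ _ hG)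
  h1409 : type_of% (@Cfsg.CfsgFrozen.S1409 G _ _ hG)
  h1410 : type_of% (@Cfsg.CfsgFrozen.S1410 G _ _ hG)
  h1415 : type_of% (@Cfsg.CfsgFrozen.S1415 G _ _ hG)
  h115 : ∀ (q : ℕ) [Fact q.Prime] (B B₀ : Subgroup G), q ∉ sigma M → B ≤ M →
      IsElementaryAbelian q B → Nat.card B = q ^ 2 → B₀ ≤ B → Nat.card B₀ = q →
      Subgroup.normalizer (B₀ : Set G) ≤ M → ∀ P : Sylow q M, IsMulCommutative (P : Subgroup M)
  hfpf : ∀ (q : ℕ) [Fact q.Prime] (B B₀ : Subgroup G), q ∉ sigma M → B ≤ M →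
      IsElementaryAbelian q B → Nat.card B = q ^ 2 → B₀ ≤ B → Nat.card B₀ = q →
      Subgroup.normalizer (B₀ : Set G) ≤ M →
      ∃ B₁ B₂ : Subgroup G, B₁ ≤ B ∧ B₂ ≤ B ∧ Nat.card B₁ = q ∧ Nat.card B₂ = q ∧ B₁ ≠ B₂ ∧
        sigmaCore M ⊓ Subgroup.centralizer (B₁ : Set G) = ⊥ ∧
        sigmaCore M ⊓ Subgroup.centralizer (B₂ : Set G) = ⊥
  hT4 : T4Stmt M
  hB : PkgBStmt G

namespace Ctx

variable {G : Type*} [Group G] [Finite G] {M : Subgroup G}

theorem solv (C : Ctx M) : Group.IsSolvable M :=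
  Cfsg.Agent.Lib.Helper35.BG.isSolvable_of_ne_top C.hG C.hM.1

theorem odd (C : Ctx M) : Odd (Nat.card M) :=
  Cfsg.Agent.Lib.Helper35.BG.odd_card_subgroup C.hG M

theorem not_dvd (_C : Ctx M) {q : ℕ} (hq : q.Prime) (hqs : q ∉ sigma M) :
    ¬ q ∣ Nat.card (sigmaCore M) :=
  fun h => hqs (Cfsg.Agent.Lib.Helper67.BG.sigmaCore_isPi M q hq h)

theorem rank2 (C : Ctx M) {q : ℕ} (hq : q.Prime) (hqs : q ∉ sigma M) : PRankLE q 2 M := by
  by_contra h
  exact hqs (C.halpha q ⟨hq, h⟩)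

theorem normalizer_eq (C : Ctx M) {N : Subgroup G} (hNM : N ≤ M) (hN1 : N ≠ ⊥)
    (hn : M ≤ Subgroup.normalizer (N : Set G)) : Subgroup.normalizer (N : Set G) = M :=
  Cfsg.Agent.Lib.Helper47.BG.normalizer_eq_of_coatom C.hG C.hM hNM hN1 hn

end Ctx

namespace Exc

variable {G : Type*} [Group G] [Finite G] {M : Subgroup G} {p : ℕ} [hp : Fact p.Prime]
  {A A₀ : Subgroup G}

theorem rank (h : Exc M p A A₀) (C : Ctx M) : PRankLE p 2 M ∧ ¬ PRankLE p 1 M :=
  (C.h1409 M C.hM p h.nsig A₀ h.card₀ h.norm).1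

theorem max (h : Exc M p A A₀) (C : Ctx M) :
    ∀ B : Subgroup G, IsElementaryAbelian p B → A ≤ B → B = A :=
  (C.h1408 M C.hM p h.nsig (h.rank C).1 (h.rank C).2).2 A h.le h.ea h.card

theorem gens (h : Exc M p A A₀) (C : Ctx M) :
    ∃ a₁ a₂ : G, a₁ ∈ A ∧ a₂ ∈ A ∧ orderOf a₁ = p ∧ orderOf a₂ = p ∧
      (∀ y ∈ sigmaCore M, a₁ * y = y * a₁ → y = 1) ∧
      (∀ y ∈ sigmaCore M, a₂ * y = y * a₂ → y = 1) ∧
      A = Subgroup.zpowers a₁ ⊔ Subgroup.zpowers a₂ :=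
  exists_fpf_gens h.card (C.hfpf p A A₀ h.nsig h.le h.ea h.card h.le₀ h.card₀ h.norm)

end Exc

/-! ### Step 1 -/

/-- **Step 1.**  `A` centralizes every normal subgroup `W₀` of `M` of prime order `q ≠ p`,
`q ∉ σ(M)`. -/
theorem step1 {G : Type*} [Group G] [Finite G] {M : Subgroup G} (C : Ctx M) {p : ℕ}
    [hp : Fact p.Prime] {A A₀ : Subgroup G} (hE : Exc M p A A₀)
    (IH : ∀ (q : ℕ) [Fact q.Prime], p < q → ∀ B B₀ : Subgroup G, Exc M q B B₀ →
      M ≤ Subgroup.normalizer ((sigmaCore M ⊔ B : Subgroup G) : Set G))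
    (q : ℕ) [hq : Fact q.Prime] (hqs : q ∉ sigma M) (hqp : q ≠ p) (W₀ : Subgroup G)
    (hW₀M : W₀ ≤ M) (hW₀ : Nat.card W₀ = q) (hW₀n : M ≤ Subgroup.normalizer (W₀ : Set G)) :
    A ≤ Subgroup.centralizer (W₀ : Set G) := by
  classical
  have hpp := hp.out
  have hqq := hq.out
  by_contra hnc
  obtain ⟨a, ha, w, hw, hne⟩ : ∃ a ∈ A, ∃ w ∈ W₀, a * w ≠ w * a := by
    by_contra h
    push Not at h
    apply hnc
    intro a ha
    rw [Subgroup.mem_centralizer_iff]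
    intro w hw
    exact (h a ha w hw).symm
  have ha1 : a ≠ 1 := by
    rintro rfl
    simp at hne
  have hao : orderOf a = p := orderOf_eq_prime (hE.ea.2 a ha) ha1
  have haM : a ∈ M := hE.le ha
  have hpq : p < q := Cfsg.Agent.Lib.Helper57.BG.lt_of_not_commute_prime hpp hqq W₀ hW₀ a hao
    (hW₀n haM) w hw hne
  have hW₀1 : W₀ ≠ ⊥ := by
    intro h
    rw [h, Subgroup.card_bot] at hW₀
    exact hqq.one_lt.ne hW₀
  have hNW : Subgroup.normalizer (W₀ : Set G) ≤ M := (C.normalizer_eq hW₀M hW₀1 hW₀n).le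
  obtain ⟨-, -, B, hBe, hB2, hWB⟩ := C.h1409 M C.hM q hqs W₀ hW₀ hNW
  have hBM : B ≤ M := by
    intro b hb
    apply hNW
    apply Cfsg.Agent.Lib.Helper35.BG.centralizer_le_normalizer' W₀
    rw [Subgroup.mem_centralizer_iff]
    intro w' hw'
    exact congrArg Subtype.val (hBe.1.is_comm.comm ⟨w', hWB hw'⟩ ⟨b, hb⟩)
  have hExcB : Exc M q B W₀ := ⟨hqs, hBM, hBe, hB2, hWB, hW₀, hNW⟩
  have hIH := IH q hpq B W₀ hExcB
  have hMsM : sigmaCore M ≤ M := Cfsg.Agent.Lib.Helper67.BG.sigmaCore_le M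
  have hMsn : M ≤ Subgroup.normalizer (sigmaCore M : Set G) :=
    Cfsg.Agent.Lib.Helper67.BG.sigmaCore_normalizer M
  have hqN : ¬ q ∣ Nat.card (sigmaCore M) := C.not_dvd hqq hqs
  have hpN : ¬ p ∣ Nat.card (sigmaCore M) := C.not_dvd hpp hE.nsig
  obtain ⟨B', hB'L, hB'e, hB'2, hAB', hnorm⟩ :=
    Cfsg.Agent.Lib.Helper80.BG.exists_invariant_ea_sylow (sigmaCore M) B A (hBM.trans hMsn)
      hBe hB2 hqN (IsPGroup.of_card hE.card) (hE.le.trans hIH) hpN hqp.symm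
  have hLM : sigmaCore M ⊔ B ≤ M := sup_le hMsM hBM
  have hB'M : B' ≤ M := hB'L.trans hLM
  have hWB' : W₀ ≤ B' := hnorm W₀ (hWB.trans le_sup_right)
    (IsPGroup.of_card (n := 1) (by rw [hW₀, pow_one])) (hLM.trans hW₀n)
  obtain ⟨B₁, B₂, hB₁, -, -, -, -, hf₁, -⟩ := C.hfpf q B' W₀ hqs hB'M hB'e hB'2 hWB' hW₀ hNW
  -- `W₀` centralizes `M_σ`
  have hW₀Ms : W₀ ⊓ sigmaCore M = ⊥ := (Subgroup.disjoint_of_coprime_natCard
    (by rw [hW₀]; exact (Nat.Prime.coprime_iff_not_dvd hqq).mpr hqN)).eq_bot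
  have hW₀c : ∀ w ∈ W₀, ∀ n ∈ sigmaCore M, w * n = n * w :=
    commute_of_normalize_of_inf_eq_bot (hW₀M.trans hMsn) (hMsM.trans hW₀n) hW₀Ms
  -- `C_{B'}(M_σ) = W₀`
  have hCB : B' ⊓ Subgroup.centralizer (sigmaCore M : Set G) = W₀ := by
    symm
    have hle : W₀ ≤ B' ⊓ Subgroup.centralizer (sigmaCore M : Set G) := by
      refine le_inf hWB' (fun w hw => ?_)
      rw [Subgroup.mem_centralizer_iff]
      intro n hn
      exact (hW₀c w hw n hn).symm
    apply Subgroup.eq_of_le_of_card_ge hle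
    rw [hW₀]
    have hdvd : Nat.card ↥(B' ⊓ Subgroup.centralizer (sigmaCore M : Set G)) ∣ q ^ 2 := by
      rw [← hB'2]; exact Subgroup.card_dvd_of_le inf_le_left
    obtain ⟨k, hk, hkeq⟩ := (Nat.dvd_prime_pow hqq).mp hdvd
    rw [hkeq]
    have hk2 : k ≠ 2 := by
      intro hk2
      rw [hk2, ← hB'2] at hkeq
      have heq : B' ⊓ Subgroup.centralizer (sigmaCore M : Set G) = B' :=
        Subgroup.eq_of_le_of_card_ge inf_le_left hkeq.ge
      apply C.hne
      rw [eq_bot_iff, ← hf₁]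
      refine le_inf le_rfl (fun n hn => ?_)
      rw [Subgroup.mem_centralizer_iff]
      intro b hb
      have hb' : b ∈ B' ⊓ Subgroup.centralizer (sigmaCore M : Set G) := by
        rw [heq]; exact hB₁ hb
      exact ((Subgroup.mem_centralizer_iff.mp hb'.2) n hn).symm
    have hk1 : k ≤ 1 := by omega
    calc q ^ k ≤ q ^ 1 := Nat.pow_le_pow_right hqq.pos hk1
      _ = q := pow_one q
  -- fixed-point-free generators of `A`
  obtain ⟨a₁, a₂, ha₁, ha₂, ho₁, ho₂, hfa₁, hfa₂, hAgen⟩ := hE.gens C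
  have hB'c : ∀ u ∈ B', ∀ v ∈ B', u * v = v * u := fun u hu v hv =>
    congrArg Subtype.val (hB'e.1.is_comm.comm ⟨u, hu⟩ ⟨v, hv⟩)
  have hB'p : (Nat.card B').Coprime p := by
    rw [hB'2]; exact Nat.Coprime.pow_left 2 ((Nat.coprime_primes hqq hpp).mpr hqp)
  have hB'N : (Nat.card B').Coprime (Nat.card (sigmaCore M)) := by
    rw [hB'2]; exact Nat.Coprime.pow_left 2 ((Nat.Prime.coprime_iff_not_dvd hqq).mpr hqN)
  have key : ∀ a' ∈ A, orderOf a' = p → (∀ y ∈ sigmaCore M, a' * y = y * a' → y = 1) →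
      ∀ u ∈ B', u * a' * u⁻¹ * a'⁻¹ ∈ W₀ := by
    intro a' ha' ho' hf' u hu
    obtain ⟨W, hWU, hW1, -, hWc⟩ := Cfsg.Agent.Lib.Helper98.BG.t5_fpf (sigmaCore M) B' a' hpp
      (by rw [← ho']; exact pow_orderOf_eq_one a') (hMsn (hE.le ha')) (hB'M.trans hMsn)
      (hAB' ha') hB'c hB'p hB'N hf'
    rw [← hCB]
    exact Subgroup.mem_inf.mpr ⟨hWU (hW1 u hu), hWc (hW1 u hu)⟩
  have hAW : ∀ u ∈ B', ∀ a' ∈ A, u * a' * u⁻¹ * a'⁻¹ ∈ W₀ := by
    intro u hu a' ha'
    rw [hAgen] at ha'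
    let T : Subgroup G :=
      { carrier := {g | g ∈ Subgroup.normalizer (W₀ : Set G) ∧
          ∀ u ∈ B', u * g * u⁻¹ * g⁻¹ ∈ W₀}
        mul_mem' := by
          rintro g h ⟨hg, hg'⟩ ⟨hh, hh'⟩
          refine ⟨Subgroup.mul_mem _ hg hh, fun u hu => ?_⟩
          have h1 : u * (g * h) * u⁻¹ * (g * h)⁻¹ =
              (u * g * u⁻¹ * g⁻¹) * (g * (u * h * u⁻¹ * h⁻¹) * g⁻¹) := by group
          rw [h1]
          exact W₀.mul_mem (hg' u hu) ((Subgroup.mem_normalizer_iff.mp hg _).mp (hh' u hu))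
        one_mem' := ⟨Subgroup.one_mem _, fun u _ => by simp⟩
        inv_mem' := by
          rintro g ⟨hg, hg'⟩
          refine ⟨Subgroup.inv_mem _ hg, fun u hu => ?_⟩
          have h1 : u * g⁻¹ * u⁻¹ * g⁻¹⁻¹ = g⁻¹ * (u * g * u⁻¹ * g⁻¹)⁻¹ * g⁻¹⁻¹ := by group
          rw [h1]
          exact (Subgroup.mem_normalizer_iff.mp (Subgroup.inv_mem _ hg) _).mp
            (W₀.inv_mem (hg' u hu)) }
    have h1 : Subgroup.zpowers a₁ ⊔ Subgroup.zpowers a₂ ≤ T := by
      apply sup_le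
      · rw [Subgroup.zpowers_le]; exact ⟨hW₀n (hE.le ha₁), key a₁ ha₁ ho₁ hfa₁⟩
      · rw [Subgroup.zpowers_le]; exact ⟨hW₀n (hE.le ha₂), key a₂ ha₂ ho₂ hfa₂⟩
    exact (h1 ha').2 u hu
  have hcomm_le : ⁅B', A⁆ ≤ W₀ := by
    rw [Subgroup.commutator_le]
    intro u hu a' ha'
    rw [commutatorElement_def]
    exact hAW u hu a' ha'
  have hAp : IsPGroup p A := IsPGroup.of_card hE.card
  have hcopAB : (Nat.card A).Coprime (Nat.card B') := by
    rw [hE.card, hB'2]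
    exact Nat.Coprime.pow _ _ ((Nat.coprime_primes hpp hqq).mpr hqp.symm)
  have hAsolv : Group.IsSolvable A := by
    have : Group.IsNilpotent A := hAp.isNilpotent
    infer_instance
  have hdec := Cfsg.Agent.Lib.Helper1.coprime_commutator_sup_centralizer A B' hAB' hcopAB
    (Or.inl hAsolv)
  have hCne : B' ⊓ Subgroup.centralizer (A : Set G) ≠ ⊥ := by
    intro h
    rw [h, sup_bot_eq] at hdec
    have h1 : B' ≤ W₀ := by rw [← hdec]; exact hcomm_le
    have h2 := Subgroup.card_le_of_le h1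
    rw [hB'2, hW₀] at h2
    nlinarith [hqq.two_le]
  have hqC : q ∣ Nat.card (Subgroup.centralizer (A : Set G)) := by
    have h1 : IsPGroup q ↥(B' ⊓ Subgroup.centralizer (A : Set G)) :=
      (IsPGroup.of_card hB'2).to_le inf_le_left
    have h2 := Cfsg.Agent.Lib.Helper67.BG.dvd_card_of_isPGroup_ne_bot h1 hCne
    exact h2.trans (Subgroup.card_dvd_of_le inf_le_right)
  have hW₀inv : W₀ ∈ invSubgroups ⊤ A {q} := by
    refine ⟨le_top, ?_, hE.le.trans hW₀n⟩
    intro r hr hdvd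
    rw [hW₀] at hdvd
    exact (Nat.prime_dvd_prime_iff_eq hr hqq).mp hdvd
  obtain ⟨Q, hQ, hWQ⟩ := exists_maxInv_ge A q W₀ hW₀inv
  have hr : PRankLE q 2 ↥(Q ⊓ Subgroup.centralizer (W₀ : Set G)) := by
    rw [Cfsg.Agent.Lib.Helper24.pRankLE_subgroup_iff]
    intro X hX hXc hXe
    have hXM : X ≤ M := hX.trans (inf_le_right.trans
      ((Cfsg.Agent.Lib.Helper35.BG.centralizer_le_normalizer' W₀).trans hNW))
    exact (Cfsg.Agent.Lib.Helper24.pRankLE_subgroup_iff q 2 M).mp (C.rank2 hqq hqs) X hXM hXc hXe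
  have hAQ := signalizer_centralizes_of_rank C.hG p q hqp.symm (fun H hH => C.h1410 p H hH) A
    hE.ea hE.card (hE.max C) hqC Q hQ W₀ hWQ hW₀ hr
  apply hne
  have h3 := hAQ ha
  rw [Subgroup.mem_centralizer_iff] at h3
  exact (h3 w (hWQ hw)).symm

/-! ### Step 2 -/

/-- **Step 2.**  A fixed-point-free generator `a` of `A` centralizes every normal `q`-subgroup
`R` (`q ≠ p`) of a complement `E ≥ A` of `M_σ`. -/
theorem step2 {G : Type*} [Group G] [Finite G] {M : Subgroup G} (C : Ctx M) {p : ℕ}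
    [hp : Fact p.Prime] {A A₀ : Subgroup G} (hE : Exc M p A A₀)
    (IH : ∀ (q : ℕ) [Fact q.Prime], p < q → ∀ B B₀ : Subgroup G, Exc M q B B₀ →
      M ≤ Subgroup.normalizer ((sigmaCore M ⊔ B : Subgroup G) : Set G))
    (E : Subgroup G) (hEc : IsComplIn E (sigmaCore M) M) (hAE : A ≤ E)
    (q : ℕ) [hq : Fact q.Prime] (hqp : q ≠ p) (R : Subgroup G) (hRE : R ≤ E)
    (hRq : IsPGroup q R) (hRn : E ≤ Subgroup.normalizer (R : Set G))
    (a : G) (haA : a ∈ A) (hao : orderOf a = p)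
    (hfa : ∀ y ∈ sigmaCore M, a * y = y * a → y = 1) :
    ∀ r ∈ R, a * r = r * a := by
  classical
  have hpp := hp.out
  have hqq := hq.out
  by_cases hR1 : R = ⊥
  · intro r hr
    rw [hR1, Subgroup.mem_bot] at hr
    rw [hr]; simp
  have hEM : E ≤ M := hEc.1
  have hRM : R ≤ M := hRE.trans hEM
  have hMsM : sigmaCore M ≤ M := Cfsg.Agent.Lib.Helper67.BG.sigmaCore_le M
  have hMsn : M ≤ Subgroup.normalizer (sigmaCore M : Set G) :=
    Cfsg.Agent.Lib.Helper67.BG.sigmaCore_normalizer M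
  have hqs : q ∉ sigma M := by
    intro hqs
    have h1 : q ∣ Nat.card R := Cfsg.Agent.Lib.Helper67.BG.dvd_card_of_isPGroup_ne_bot hRq hR1
    have h2 : q ∣ Nat.card E := h1.trans (Subgroup.card_dvd_of_le hRE)
    rw [Cfsg.Agent.Lib.Helper76.BG.card_compl_eq_relIndex hEc] at h2
    exact C.hall.2.2 q hqq hqs h2
  have hqN : ¬ q ∣ Nat.card (sigmaCore M) := C.not_dvd hqq hqs
  have hpN : ¬ p ∣ Nat.card (sigmaCore M) := C.not_dvd hpp hE.nsig
  have haM : a ∈ M := hE.le haA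
  have haR : a ∈ Subgroup.normalizer (R : Set G) := hRn (hAE haA)
  by_cases hY : R ⊓ Subgroup.centralizer (sigmaCore M : Set G) = ⊥
  · exact C.hB M (sigmaCore M) R a C.solv C.odd
      hMsM hRM haM hpp hqp.symm hao (hMsn haM) (hRM.trans hMsn) haR hRq hqN hpN hfa hY
  · have hYM : R ⊓ Subgroup.centralizer (sigmaCore M : Set G) ≤ M := inf_le_left.trans hRM
    have hYq : IsPGroup q ↥(R ⊓ Subgroup.centralizer (sigmaCore M : Set G)) :=
      hRq.to_le inf_le_left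
    have hYn : M ≤ Subgroup.normalizer
        ((R ⊓ Subgroup.centralizer (sigmaCore M : Set G) : Subgroup G) : Set G) := by
      intro m hm
      obtain ⟨e, he, s, hs, rfl⟩ := hEc.2.2.2 m hm
      apply Subgroup.mul_mem
      · exact mem_normalizer_inf (hRn he)
          (Cfsg.Agent.Lib.Helper61.normalizer_le_normalizer_centralizer _ (hMsn (hEM he)))
      · apply Cfsg.Agent.Lib.Helper35.BG.centralizer_le_normalizer'
        rw [Subgroup.mem_centralizer_iff]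
        intro y hy
        exact ((Subgroup.mem_centralizer_iff.mp hy.2) s hs).symm
    obtain ⟨-, W₀, hW₀Y, hW₀, hW₀n, -, -, hSyl, hmin⟩ :=
      C.hT4 q hqs _ hYM hY hYq hYn
    have hRc : ∀ u ∈ R, ∀ v ∈ R, u * v = v * u :=
      Cfsg.Agent.Lib.Helper57.BG.commute_of_sylow_comm hSyl hRq hRM
    obtain ⟨n, hn⟩ := IsPGroup.iff_card.mp hRq
    have hRp : (Nat.card R).Coprime p := by
      rw [hn]; exact Nat.Coprime.pow_left n ((Nat.coprime_primes hqq hpp).mpr hqp)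
    have hRN : (Nat.card R).Coprime (Nat.card (sigmaCore M)) := by
      rw [hn]; exact Nat.Coprime.pow_left n ((Nat.Prime.coprime_iff_not_dvd hqq).mpr hqN)
    obtain ⟨W, hWR, hW1, hWf, hWc⟩ := Cfsg.Agent.Lib.Helper98.BG.t5_fpf (sigmaCore M) R a hpp
      (by rw [← hao]; exact pow_orderOf_eq_one a) (hMsn haM) (hRM.trans hMsn) haR hRc hRp hRN hfa
    have hWY : W ≤ R ⊓ Subgroup.centralizer (sigmaCore M : Set G) := le_inf hWR hWc
    have hWbot : W = ⊥ := by
      by_contra hW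
      have hW₀W : W₀ ≤ W := hmin W hWY hW
      have hAW₀ := step1 C hE IH q hqs hqp W₀ (hW₀Y.trans hYM) hW₀ hW₀n
      have hW₀1 : W₀ ≠ ⊥ := by
        intro h
        rw [h, Subgroup.card_bot] at hW₀
        exact hqq.one_lt.ne hW₀
      obtain ⟨⟨w, hw⟩, hw1⟩ := (Subgroup.ne_bot_iff_exists_ne_one.mp hW₀1)
      apply hw1
      apply Subtype.ext
      apply hWf w (hW₀W hw)
      have h3 := hAW₀ haA
      rw [Subgroup.mem_centralizer_iff] at h3
      exact (h3 w hw).symm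
    intro r hr
    have h1 := hW1 r hr
    rw [hWbot, Subgroup.mem_bot] at h1
    have h2 : r * a = a * r := by
      calc r * a = (r * a * r⁻¹ * a⁻¹) * (a * r) := by group
        _ = a * r := by rw [h1, one_mul]
    exact h2.symm

/-! ### Step 3 -/

/-- **Step 3** (assembly): the inductive step of Lemma 11.7. -/
theorem step3 {G : Type*} [Group G] [Finite G] {M : Subgroup G} (C : Ctx M) {p : ℕ}
    [hp : Fact p.Prime] {A A₀ : Subgroup G} (hE : Exc M p A A₀)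
    (IH : ∀ (q : ℕ) [Fact q.Prime], p < q → ∀ B B₀ : Subgroup G, Exc M q B B₀ →
      M ≤ Subgroup.normalizer ((sigmaCore M ⊔ B : Subgroup G) : Set G)) :
    M ≤ Subgroup.normalizer ((sigmaCore M ⊔ A : Subgroup G) : Set G) := by
  classical
  have hpp := hp.out
  have hAp : IsPGroup p A := IsPGroup.of_card hE.card
  obtain ⟨E, hEc, hAE⟩ := Cfsg.Agent.Lib.Helper76.BG.exists_compl_ge C.hG M C.hM C.hall A hE.le
    (by
      intro r hr hdvd
      rw [hE.card] at hdvd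
      have h1 : r = p := (Nat.prime_dvd_prime_iff_eq hr hpp).mp (hr.dvd_of_dvd_pow hdvd)
      rw [h1]; exact hE.nsig)
  have hEM : E ≤ M := hEc.1
  have hnil : Group.IsNilpotent ↥⁅E, E⁆ := (C.h1415 M C.hM E hEc).1
  obtain ⟨a₁, a₂, ha₁, ha₂, ho₁, ho₂, hfa₁, hfa₂, hAgen⟩ := hE.gens C
  have hDE : ⁅E, E⁆ ≤ E := by
    rw [Subgroup.commutator_le]
    intro g₁ h₁ g₂ h₂
    rw [commutatorElement_def]
    exact E.mul_mem (E.mul_mem (E.mul_mem h₁ h₂) (E.inv_mem h₁)) (E.inv_mem h₂)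
  have hEnD : E ≤ Subgroup.normalizer ((⁅E, E⁆ : Subgroup G) : Set G) :=
    Cfsg.Agent.Lib.Helper1.le_normalizer_commutator_left E E
  have hDA : ⁅E, E⁆ ≤ Subgroup.centralizer (A : Set G) := by
    apply Cfsg.Agent.Lib.Helper97.HH.le_of_forall_prime_sylow
    intro q hq
    have : Fact q.Prime := ⟨hq⟩
    obtain S : Sylow q ↥⁅E, E⁆ := default
    have : Group.IsNilpotent ↥⁅E, E⁆ := hnil
    have hRD : (S : Subgroup ↥⁅E, E⁆).map (⁅E, E⁆ : Subgroup G).subtype ≤ ⁅E, E⁆ :=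
      Subgroup.map_subtype_le _
    have hRq : IsPGroup q ↥((S : Subgroup ↥⁅E, E⁆).map (⁅E, E⁆ : Subgroup G).subtype) :=
      S.isPGroup'.map _
    have hRn : E ≤ Subgroup.normalizer
        (((S : Subgroup ↥⁅E, E⁆).map (⁅E, E⁆ : Subgroup G).subtype : Subgroup G) : Set G) := by
      intro e he
      apply Cfsg.Agent.Lib.Helper75.BG.mem_normalizer_of_map_le
      rintro _ ⟨x, hx, rfl⟩
      have hxD : x ∈ ⁅E, E⁆ := hRD hx
      have hyD : e * x * e⁻¹ ∈ ⁅E, E⁆ := (Subgroup.mem_normalizer_iff.mp (hEnD he) x).mp hxD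
      obtain ⟨k, hk⟩ := hRq ⟨x, hx⟩
      have hk' : x ^ q ^ k = 1 := congrArg Subtype.val hk
      have hyq : (⟨e * x * e⁻¹, hyD⟩ : ↥⁅E, E⁆) ^ q ^ k = 1 := by
        apply Subtype.ext
        rw [Subgroup.coe_pow, Subgroup.coe_one]
        show (e * x * e⁻¹) ^ q ^ k = 1
        rw [conj_pow, hk']; simp
      have hz : IsPGroup q (Subgroup.zpowers (⟨e * x * e⁻¹, hyD⟩ : ↥⁅E, E⁆)) := by
        rintro ⟨g, hg⟩
        obtain ⟨n, rfl⟩ := Subgroup.mem_zpowers_iff.mp hg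
        refine ⟨k, Subtype.ext ?_⟩
        rw [Subgroup.coe_pow, Subgroup.coe_one]
        show ((⟨e * x * e⁻¹, hyD⟩ : ↥⁅E, E⁆) ^ n) ^ q ^ k = 1
        rw [← zpow_natCast, ← zpow_mul, mul_comm, zpow_mul, zpow_natCast, hyq, one_zpow]
      obtain ⟨S', hS'⟩ := hz.exists_le_sylow
      have hSS : S' = S := by
        obtain ⟨g, hg⟩ := MulAction.exists_smul_eq ↥⁅E, E⁆ S S'
        rw [← hg, Sylow.smul_eq_of_normal]
      rw [hSS] at hS'
      exact ⟨⟨_, hyD⟩, hS' (Subgroup.mem_zpowers _), rfl⟩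
    have hidx : ¬ q ∣ ((S : Subgroup ↥⁅E, E⁆).map (⁅E, E⁆ : Subgroup G).subtype).relIndex
        ⁅E, E⁆ := by
      have h1 : ((S : Subgroup ↥⁅E, E⁆).map (⁅E, E⁆ : Subgroup G).subtype).relIndex ⁅E, E⁆ =
          (S : Subgroup ↥⁅E, E⁆).index := by
        unfold Subgroup.relIndex Subgroup.subgroupOf
        rw [Subgroup.comap_map_eq_self_of_injective (⁅E, E⁆ : Subgroup G).subtype_injective]
      rw [h1]
      exact S.not_dvd_index
    refine ⟨_, hRD, ?_, hidx⟩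
    by_cases hqp : q = p
    · subst hqp
      have h1 : IsPGroup q (A ⊔ (S : Subgroup ↥⁅E, E⁆).map (⁅E, E⁆ : Subgroup G).subtype :
          Subgroup G) := IsPGroup.to_sup_of_normal_right' hAp hRq (hAE.trans hRn)
      have hSyl := C.h115 q A A₀ hE.nsig hE.le hE.ea hE.card hE.le₀ hE.card₀ hE.norm
      have hc := Cfsg.Agent.Lib.Helper57.BG.commute_of_sylow_comm hSyl h1
        (sup_le hE.le ((hRD.trans hDE).trans hEM))
      intro r hr
      rw [Subgroup.mem_centralizer_iff]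
      intro a ha
      exact hc a ((le_sup_left : A ≤ A ⊔ _) ha) r ((le_sup_right : _ ≤ A ⊔ _) hr)
    · have h1 := step2 C hE IH E hEc hAE q hqp _ (hRD.trans hDE) hRq hRn a₁ ha₁ ho₁ hfa₁
      have h2 := step2 C hE IH E hEc hAE q hqp _ (hRD.trans hDE) hRq hRn a₂ ha₂ ho₂ hfa₂
      intro r hr
      have hle : A ≤ Subgroup.centralizer ({r} : Set G) := by
        rw [hAgen]
        apply sup_le
        · rw [Subgroup.zpowers_le, Subgroup.mem_centralizer_iff]
          intro x hx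
          rw [Set.mem_singleton_iff] at hx
          rw [hx]; exact (h1 r hr).symm
        · rw [Subgroup.zpowers_le, Subgroup.mem_centralizer_iff]
          intro x hx
          rw [Set.mem_singleton_iff] at hx
          rw [hx]; exact (h2 r hr).symm
      rw [Subgroup.mem_centralizer_iff]
      intro a ha
      exact ((Subgroup.mem_centralizer_iff.mp (hle ha)) r rfl).symm
  have hEA : E ≤ Subgroup.normalizer (A : Set G) := by
    have key : ∀ e ∈ E, ∀ a ∈ A, e * a * e⁻¹ ∈ A := by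
      intro e he a ha
      apply mem_of_ea_max hE.ea (hE.max C)
      · have h1 : e * a * e⁻¹ = (e * a * e⁻¹ * a⁻¹) * a := by group
        rw [h1]
        apply Subgroup.mul_mem
        · apply hDA
          have h2 := Subgroup.commutator_mem_commutator he (hAE ha)
          rwa [commutatorElement_def] at h2
        · rw [Subgroup.mem_centralizer_iff]
          intro b hb
          exact congrArg Subtype.val (hE.ea.1.is_comm.comm ⟨b, hb⟩ ⟨a, ha⟩)
      · rw [conj_pow, hE.ea.2 a ha]; simp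
    intro e he
    rw [Subgroup.mem_normalizer_iff]
    intro h
    constructor
    · exact key e he h
    · intro hh
      have h3 := key e⁻¹ (E.inv_mem he) _ hh
      have h2 : e⁻¹ * (e * h * e⁻¹) * e⁻¹⁻¹ = h := by group
      rwa [h2] at h3
  intro m hm
  obtain ⟨e, he, s, hs, rfl⟩ := hEc.2.2.2 m hm
  apply Subgroup.mul_mem
  · exact mem_normalizer_sup (Cfsg.Agent.Lib.Helper67.BG.sigmaCore_normalizer M (hEM he)) (hEA he)
  · exact Subgroup.le_normalizer ((le_sup_left : sigmaCore M ≤ sigmaCore M ⊔ A) hs)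

/-- Lemma 11.7 for all primes, by downward induction. -/
theorem exc_normal_of_ctx {G : Type*} [Group G] [Finite G] {M : Subgroup G} (C : Ctx M) :
    ∀ (p : ℕ) [Fact p.Prime] (A A₀ : Subgroup G), Exc M p A A₀ →
      M ≤ Subgroup.normalizer ((sigmaCore M ⊔ A : Subgroup G) : Set G) := by
  have key : ∀ n : ℕ, ∀ (p : ℕ) [Fact p.Prime], Nat.card M ≤ p + n →
      ∀ A A₀ : Subgroup G, Exc M p A A₀ →
        M ≤ Subgroup.normalizer ((sigmaCore M ⊔ A : Subgroup G) : Set G) := by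
    intro n
    induction n with
    | zero =>
      intro p hp hle A A₀ hE
      exfalso
      have h1 : Nat.card A ≤ Nat.card M := Subgroup.card_le_of_le hE.le
      rw [hE.card] at h1
      have h2 := hp.out.two_le
      nlinarith
    | succ n ih =>
      intro p hp hle A A₀ hE
      exact step3 C hE (fun q _ hpq B B₀ hB => ih q (by omega) B B₀ hB)
  intro p hp A A₀ hE
  exact key (Nat.card M) p (Nat.le_add_left _ _) A A₀ hE

/-- **Bender–Glauberman Lemma 11.7** for a fixed maximal subgroup `M`: if `M` is exceptional for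
`(p, A, A₀)` then `M_σ A` is normal in `M`.  Hypotheses: the frozen statements S1350, S1403,
S1405, S1408, S1409, S1410, S1415 for `G`, Lemma 11.5 (`h115`) and the two fixed-point-free
points (`hfpf`, from 11.2(b) and 11.6) for every exceptional triple of this `M`, tool T4 for `M`
and package B. -/
theorem exc_normal_core {G : Type*} [Group G] [Finite G] (hG : IsMinSimpleOddOrder G)
    (h1350 : type_of% (@Cfsg.CfsgFrozen.S1350 G _ _ hG))
    (h1403 : type_of% (@Cfsg.CfsgFrozen.S1403 G _ _ hG))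
    (h1405 : type_of% (@Cfsg.CfsgFrozen.S1405 G _ _ hG))
    (h1408 : type_of% (@Cfsg.CfsgFrozen.S1408 G _ _ hG))
    (h1409 : type_of% (@Cfsg.CfsgFrozen.S1409 G _ _ hG))
    (h1410 : type_of% (@Cfsg.CfsgFrozen.S1410 G _ _ hG))
    (h1415 : type_of% (@Cfsg.CfsgFrozen.S1415 G _ _ hG))
    (M : Subgroup G) (hM : IsCoatom M)
    (h115 : ∀ (q : ℕ) [Fact q.Prime] (B B₀ : Subgroup G), q ∉ sigma M → B ≤ M →
      IsElementaryAbelian q B → Nat.card B = q ^ 2 → B₀ ≤ B → Nat.card B₀ = q →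
      Subgroup.normalizer (B₀ : Set G) ≤ M → ∀ P : Sylow q M, IsMulCommutative (P : Subgroup M))
    (hfpf : ∀ (q : ℕ) [Fact q.Prime] (B B₀ : Subgroup G), q ∉ sigma M → B ≤ M →
      IsElementaryAbelian q B → Nat.card B = q ^ 2 → B₀ ≤ B → Nat.card B₀ = q →
      Subgroup.normalizer (B₀ : Set G) ≤ M →
      ∃ B₁ B₂ : Subgroup G, B₁ ≤ B ∧ B₂ ≤ B ∧ Nat.card B₁ = q ∧ Nat.card B₂ = q ∧ B₁ ≠ B₂ ∧
        sigmaCore M ⊓ Subgroup.centralizer (B₁ : Set G) = ⊥ ∧
        sigmaCore M ⊓ Subgroup.centralizer (B₂ : Set G) = ⊥)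
    (hT4 : T4Stmt M) (hB : PkgBStmt G) :
    ∀ (p : ℕ) [Fact p.Prime] (A A₀ : Subgroup G), p ∉ sigma M → A ≤ M →
      IsElementaryAbelian p A → Nat.card A = p ^ 2 → A₀ ≤ A → Nat.card A₀ = p →
      Subgroup.normalizer (A₀ : Set G) ≤ M →
      M ≤ Subgroup.normalizer ((sigmaCore M ⊔ A : Subgroup G) : Set G) := by
  have C : Ctx M :=
    { hG := hG
      hM := hM
      hall := (h1350 M hM).1
      halpha := fun q hq => Cfsg.Agent.Lib.Helper78.BG.alpha_subset_sigma hG h1403 M hM hq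
      hne := Cfsg.Agent.Lib.Helper47.BG.sigmaCore_ne_bot hG h1405 M hM
      h1408 := h1408
      h1409 := h1409
      h1410 := h1410
      h1415 := h1415
      h115 := h115
      hfpf := hfpf
      hT4 := hT4
      hB := hB }
  intro p _ A A₀ h1 h2 h3 h4 h5 h6 h7
  exact exc_normal_of_ctx C p A A₀ ⟨h1, h2, h3, h4, h5, h6, h7⟩

end Cfsg.Agent.Lib.Helper15.BG
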