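import Mathlib
import Cfsg.Prelude.Def_OddOrderLocal
import Cfsg.Statements.S1404
import Cfsg.Statements.S1412
import Cfsg.Agent.Lib.Helper15.BG.Exc117
import Cfsg.Agent.Lib.Helper25.BG.Sec11
import Cfsg.Agent.Lib.Helper59.BG.Sec11Fpf
import Cfsg.Agent.Lib.Helper76.BG.Sec11Abelian

/-!
# Bender–Glauberman Lemma 11.7 for all exceptional maximal subgroups

Assembly of `exc_normal_core` (Lemma 11.7 given 11.5 and the fixed-point-free points) with
Lemmas 11.1–11.4 (`Helper25.BG.exc_sec11`), 11.5/11.6 (`Helper76.BG.sec11_abelian`) and the two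
fixed-point-free points (`Helper59.BG.sec11_fpf_two`).
-/

set_option autoImplicit false

namespace Cfsg.Agent.Lib.Helper15.BG

open Cfsg

/-- Lemmas 11.5, 11.6(a) and 11.2(b) for an exceptional datum, from the frozen statements. -/
theorem exc_pieces {G : Type*} [Group G] [Finite G] (hG : IsMinSimpleOddOrder G)
    (h1350 : type_of% (@Cfsg.CfsgFrozen.S1350 G _ _ hG))
    (h1404 : type_of% (@Cfsg.CfsgFrozen.S1404 G _ _ hG))
    (h1405 : type_of% (@Cfsg.CfsgFrozen.S1405 G _ _ hG))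
    (h1408 : type_of% (@Cfsg.CfsgFrozen.S1408 G _ _ hG))
    (h1409 : type_of% (@Cfsg.CfsgFrozen.S1409 G _ _ hG))
    (h1410 : type_of% (@Cfsg.CfsgFrozen.S1410 G _ _ hG))
    (h1412 : type_of% (@Cfsg.CfsgFrozen.S1412 G _ _ hG))
    (M : Subgroup G) (hM : IsCoatom M)
    (q : ℕ) [Fact q.Prime] (B B₀ : Subgroup G) (hq : q ∉ sigma M) (hBM : B ≤ M)
    (hBe : IsElementaryAbelian q B) (hB2 : Nat.card B = q ^ 2) (hB₀ : B₀ ≤ B)
    (hB₀c : Nat.card B₀ = q) (hN : Subgroup.normalizer (B₀ : Set G) ≤ M) :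
    (∀ P : Sylow q M, IsMulCommutative (P : Subgroup M) ∧
        (B ≤ (P : Subgroup M).map M.subtype →
          (∀ x ∈ (P : Subgroup M).map M.subtype, x ^ q = 1 ↔ x ∈ B) ∧
          ¬ Subgroup.normalizer ((((P : Subgroup M).map M.subtype : Subgroup G)) : Set G) ≤ M)) ∧
      (∀ g : G, g ∉ M → B ≤ M.map (MulAut.conj g).toMonoidHom →
        sigmaCore M ⊓ Subgroup.centralizer
          ((B₀.map (MulAut.conj g).toMonoidHom : Subgroup G) : Set G) = ⊥) := by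
  have hHall := (h1350 M hM).1
  have hne := Cfsg.Agent.Lib.Helper47.BG.sigmaCore_ne_bot hG h1405 M hM
  have h25 := Cfsg.Agent.Lib.Helper25.BG.exc_sec11 hG h1350 h1404 h1408 h1409 h1410 M hM q hq B hBM
    hBe hB2 B₀ hB₀ hB₀c hN
  have h1b := Cfsg.Agent.Lib.Helper25.BG.exc_sec11_1b hG h1404 h1408 h1409 h1410 M hM q hq B hBM
    hBe hB2 B₀ hB₀ hB₀c hN
  have hr2 := (h1409 M hM q hq B₀ hB₀c hN).1.1
  have hqq : q.Prime := Fact.out
  have h76 := Cfsg.Agent.Lib.Helper76.BG.sec11_abelian hG h1412 M q hq B B₀ hBM hBe hB2 hB₀ hB₀c hN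
    hr2 hHall
    (fun g hg _ r _ Q1 Q2 h1 h2 h3 h4 h5 h6 X hX hXc =>
      h1b g hg r Q1 Q2 h1 h2 h3 h4 h5 h6 X hX (by
        intro h
        rw [h, Subgroup.card_bot] at hXc
        exact hqq.one_lt.ne hXc))
    h25.2.1 h25.2.2.1 hne
  exact ⟨h76.1, h25.2.1⟩

/-- **Bender–Glauberman Lemma 11.7** for every exceptional maximal subgroup, from the frozen
statements S1350, S1403, S1404, S1405, S1408, S1409, S1410, S1412, S1415, tool T4 and package B. -/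
theorem exc_normal_of_t4 {G : Type*} [Group G] [Finite G] (hG : IsMinSimpleOddOrder G)
    (h1350 : type_of% (@Cfsg.CfsgFrozen.S1350 G _ _ hG))
    (h1403 : type_of% (@Cfsg.CfsgFrozen.S1403 G _ _ hG))
    (h1404 : type_of% (@Cfsg.CfsgFrozen.S1404 G _ _ hG))
    (h1405 : type_of% (@Cfsg.CfsgFrozen.S1405 G _ _ hG))
    (h1408 : type_of% (@Cfsg.CfsgFrozen.S1408 G _ _ hG))
    (h1409 : type_of% (@Cfsg.CfsgFrozen.S1409 G _ _ hG))
    (h1410 : type_of% (@Cfsg.CfsgFrozen.S1410 G _ _ hG))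
    (h1412 : type_of% (@Cfsg.CfsgFrozen.S1412 G _ _ hG))
    (h1415 : type_of% (@Cfsg.CfsgFrozen.S1415 G _ _ hG))
    (hT4 : ∀ M : Subgroup G, IsCoatom M → T4Stmt M) (hB : PkgBStmt G) :
    ∀ (M : Subgroup G), IsCoatom M → ∀ (p : ℕ) [Fact p.Prime] (A A₀ : Subgroup G),
      p ∉ sigma M → A ≤ M → IsElementaryAbelian p A → Nat.card A = p ^ 2 → A₀ ≤ A →
      Nat.card A₀ = p → Subgroup.normalizer (A₀ : Set G) ≤ M →
      M ≤ Subgroup.normalizer ((sigmaCore M ⊔ A : Subgroup G) : Set G) := by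
  intro M hM
  apply exc_normal_core hG h1350 h1403 h1405 h1408 h1409 h1410 h1415 M hM
  · intro q _ B B₀ hq hBM hBe hB2 hB₀ hB₀c hN P
    exact ((exc_pieces hG h1350 h1404 h1405 h1408 h1409 h1410 h1412 M hM q B B₀ hq hBM hBe hB2
      hB₀ hB₀c hN).1 P).1
  · intro q _ B B₀ hq hBM hBe hB2 hB₀ hB₀c hN
    obtain ⟨h1, h2b⟩ := exc_pieces hG h1350 h1404 h1405 h1408 h1409 h1410 h1412 M hM q B B₀ hq
      hBM hBe hB2 hB₀ hB₀c hN
    have hBq : IsPGroup q (B.subgroupOf M) :=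
      (IsPGroup.of_card hB2).of_equiv (Subgroup.subgroupOfEquivOfLe hBM).symm
    obtain ⟨P, hP⟩ := hBq.exists_le_sylow
    have hBP : B ≤ (P : Subgroup M).map M.subtype := by
      intro b hb
      exact ⟨⟨b, hBM hb⟩, hP (Subgroup.mem_subgroupOf.mpr hb), rfl⟩
    exact Cfsg.Agent.Lib.Helper59.BG.sec11_fpf_two hG.1 M q hq B B₀ hBM hBe hB2 hB₀ hB₀c hN h2b P
      hBP (fun x hx hxq => (((h1 P).2 hBP).1 x hx).mp hxq)
  · exact hT4 M hM
  · exact hB

end Cfsg.Agent.Lib.Helper15.BG
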