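import Mathlib
import Cfsg.Prelude.Def_OddOrderLocal
import Cfsg.Statements.S1350
import Cfsg.Statements.S1403
import Cfsg.Statements.S1408
import Cfsg.Statements.S1414
import Cfsg.Statements.S1415
import Cfsg.Statements.S1417
import Cfsg.Statements.S1418
import Cfsg.Statements.S1419
import Cfsg.Statements.S1422
import Cfsg.Statements.S1423
import Cfsg.Statements.S1426
import Cfsg.Statements.S1427
import Cfsg.Statements.S1428
import Cfsg.Agent.Lib.Helper15.BG.Tau12Asm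
import Cfsg.Agent.Lib.Helper37.BG.Tau12A2
import Cfsg.Agent.Lib.Helper74.BG.Tau12Struct
import Cfsg.Agent.Lib.Helper67.BG.Tau12Prime
import Cfsg.Agent.Lib.Helper90.BG.Tau12Cent
import Cfsg.Agent.Lib.Helper24.BG.Tau12LsideFor
import Cfsg.Agent.Lib.Helper25.BG.S1430Defs

/-!
# Bender–Glauberman 13.12 (`tau12_regular`), closed

`tau12_regular` is BG 13.12 for a minimal simple group `G` of odd order, in the shape
`Helper25.BG30.Hyp1312 G`, from earlier frozen statements only:  if `M` is a maximal subgroup,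
`E` a complement of `M_σ` in `M`, `q ∈ τ₂(M)`, `A ≤ E` elementary abelian of order `q ^ 2`,
`p ∈ τ₁(M)`, `P ≤ E` of order `p` and `C_A(P) ≠ 1`, then `C_{M_σ}(P) = 1`.

The `M`-side packages are due to helper37 (`pkA2`), helper74 (`pkStruct`), helper67 (`pkPrime`)
and helper90 (`pkCent`); the `L`-side is helper24's `lsideFor`.
-/

set_option autoImplicit false

namespace Cfsg.Agent.Lib.Helper15.BG

open Cfsg

universe u

/-- BG 13.12 from S1350, S1403, S1408, S1414, S1415, S1417, S1418, S1419, S1422, S1423, S1426,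
S1427, S1428. -/
theorem tau12_regular {G : Type u} [Group G] [Finite G] (hG : Cfsg.IsMinSimpleOddOrder G)
    (h1350 : type_of% (@Cfsg.CfsgFrozen.S1350 G _ _ hG))
    (h1403 : type_of% (@Cfsg.CfsgFrozen.S1403 G _ _ hG))
    (h1408 : type_of% (@Cfsg.CfsgFrozen.S1408 G _ _ hG))
    (h1414 : type_of% (@Cfsg.CfsgFrozen.S1414 G _ _ hG))
    (h1415 : type_of% (@Cfsg.CfsgFrozen.S1415 G _ _ hG))
    (h1417 : type_of% (@Cfsg.CfsgFrozen.S1417 G _ _ hG))
    (h1418 : type_of% (@Cfsg.CfsgFrozen.S1418 G _ _ hG))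
    (h1419 : type_of% (@Cfsg.CfsgFrozen.S1419 G _ _ hG))
    (h1422 : type_of% (@Cfsg.CfsgFrozen.S1422 G _ _ hG))
    (h1423 : type_of% (@Cfsg.CfsgFrozen.S1423 G _ _ hG))
    (h1426 : type_of% (@Cfsg.CfsgFrozen.S1426 G _ _ hG))
    (h1427 : type_of% (@Cfsg.CfsgFrozen.S1427 G _ _ hG))
    (h1428 : type_of% (@Cfsg.CfsgFrozen.S1428 G _ _ hG)) :
    Cfsg.Agent.Lib.Helper25.BG30.Hyp1312 G :=
  T12.tau12_regular_of Cfsg.Agent.Lib.Helper37.BG.pkA2 Cfsg.Agent.Lib.Helper74.BG.pkStruct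
    Cfsg.Agent.Lib.Helper67.BG.pkPrime Cfsg.Agent.Lib.Helper90.BG.pkCent hG
    ⟨h1350, h1403, h1415, h1417, h1418, h1419, h1422, h1427, h1428⟩
    (Cfsg.Agent.Lib.Helper24.BG31.lsideFor hG h1350 h1408 h1414 h1417 h1418 h1422 h1423 h1426)

end Cfsg.Agent.Lib.Helper15.BG
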