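import Mathlib
import Cfsg.Prelude.Def_OddOrderLocal
import Cfsg.Agent.Lib.Helper15.BG.Exc117Final
import Cfsg.Agent.Lib.Helper57.BG.PkgB
import Cfsg.Agent.Lib.Helper98.BG.T4

/-!
# Bender–Glauberman Lemma 11.7, closed form

`exc_normal` : for every maximal subgroup `M` of a minimal simple group of odd order and every
exceptional datum `(p, A, A₀)` of `M` (`p ∉ σ(M)`, `A ≤ M` elementary abelian of order `p²`,
`A₀ ≤ A` of order `p` with `N_G(A₀) ≤ M`), the subgroup `M_σ A` is normal in `M`.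

The only hypotheses are frozen statements (S1350, S1403, S1404, S1405, S1408, S1409, S1410, S1412,
S1415); tool T4 (`Helper98.BG.t4`) and package B (`Helper57.BG.fpf_centralizes_pgroup`) are plugged
into `exc_normal_of_t4`.
-/

set_option autoImplicit false

namespace Cfsg.Agent.Lib.Helper15.BG

open Cfsg

/-- Package B holds in every finite group. -/
theorem pkgB_holds (G : Type*) [Group G] [Finite G] : PkgBStmt G := by
  intro X N R a hXs hXo hNX hRX haX p q hp _ hpq hao haN hRN haR hR hqN hpN hfpf hY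
  exact Cfsg.Agent.Lib.Helper57.BG.fpf_centralizes_pgroup X N R a hXs hXo hNX hRX haX hp hpq hao
    haN hRN haR hR hqN hpN hfpf hY

/-- Tool T4 for every maximal subgroup, from the frozen statements. -/
theorem t4_holds {G : Type*} [Group G] [Finite G] (hG : IsMinSimpleOddOrder G)
    (h1350 : type_of% (@Cfsg.CfsgFrozen.S1350 G _ _ hG))
    (h1403 : type_of% (@Cfsg.CfsgFrozen.S1403 G _ _ hG))
    (h1404 : type_of% (@Cfsg.CfsgFrozen.S1404 G _ _ hG))
    (h1405 : type_of% (@Cfsg.CfsgFrozen.S1405 G _ _ hG))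
    (h1408 : type_of% (@Cfsg.CfsgFrozen.S1408 G _ _ hG))
    (h1409 : type_of% (@Cfsg.CfsgFrozen.S1409 G _ _ hG))
    (h1410 : type_of% (@Cfsg.CfsgFrozen.S1410 G _ _ hG))
    (h1412 : type_of% (@Cfsg.CfsgFrozen.S1412 G _ _ hG))
    (M : Subgroup G) (hM : IsCoatom M) : T4Stmt M := by
  intro q _ hq Y hYM hY1 hYq hYn
  exact Cfsg.Agent.Lib.Helper98.BG.t4 hG h1409 M hM
    (fun r hr => Cfsg.Agent.Lib.Helper78.BG.alpha_subset_sigma hG h1403 M hM hr)
    (fun r _ B B₀ hr hBM hBe hB2 hB₀ hB₀c hN P =>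
      ((exc_pieces hG h1350 h1404 h1405 h1408 h1409 h1410 h1412 M hM r B B₀ hr hBM hBe hB2
        hB₀ hB₀c hN).1 P).1)
    q hq Y hYM hY1 hYq hYn

/-- **Bender–Glauberman Lemma 11.7**: for every maximal subgroup `M` and every exceptional datum
`(p, A, A₀)` of `M`, the subgroup `M_σ A` is normal in `M`.  All hypotheses are frozen
statements. -/
theorem exc_normal {G : Type*} [Group G] [Finite G] (hG : IsMinSimpleOddOrder G)
    (h1350 : type_of% (@Cfsg.CfsgFrozen.S1350 G _ _ hG))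
    (h1403 : type_of% (@Cfsg.CfsgFrozen.S1403 G _ _ hG))
    (h1404 : type_of% (@Cfsg.CfsgFrozen.S1404 G _ _ hG))
    (h1405 : type_of% (@Cfsg.CfsgFrozen.S1405 G _ _ hG))
    (h1408 : type_of% (@Cfsg.CfsgFrozen.S1408 G _ _ hG))
    (h1409 : type_of% (@Cfsg.CfsgFrozen.S1409 G _ _ hG))
    (h1410 : type_of% (@Cfsg.CfsgFrozen.S1410 G _ _ hG))
    (h1412 : type_of% (@Cfsg.CfsgFrozen.S1412 G _ _ hG))
    (h1415 : type_of% (@Cfsg.CfsgFrozen.S1415 G _ _ hG)) :
    ∀ (M : Subgroup G), IsCoatom M → ∀ (p : ℕ) [Fact p.Prime] (A A₀ : Subgroup G),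
      p ∉ sigma M → A ≤ M → IsElementaryAbelian p A → Nat.card A = p ^ 2 → A₀ ≤ A →
      Nat.card A₀ = p → Subgroup.normalizer (A₀ : Set G) ≤ M →
      M ≤ Subgroup.normalizer ((sigmaCore M ⊔ A : Subgroup G) : Set G) :=
  exc_normal_of_t4 hG h1350 h1403 h1404 h1405 h1408 h1409 h1410 h1412 h1415
    (fun M hM => t4_holds hG h1350 h1403 h1404 h1405 h1408 h1409 h1410 h1412 M hM)
    (pkgB_holds G)

end Cfsg.Agent.Lib.Helper15.BG
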