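import Mathlib
import Cfsg.Prelude.Def_OddOrderLocal
import Cfsg.Statements.S1416
import Cfsg.Statements.S1417
import Cfsg.Agent.Lib.Helper15.BG.Exc117Closed
import Cfsg.Agent.Lib.Helper29.BG.S1416C
import Cfsg.Agent.Lib.Helper29.BG.Exc113
import Cfsg.Agent.Lib.Helper29.BG.Exc11Glue
import Cfsg.Agent.Lib.Helper59.BG.S1417Glue

/-!
# Statements S1416 and S1417 from earlier frozen statements only

`s1416_closed` and `s1417_closed` assemble the cores of helper29 (`s1416_core`, Section 11.1–11.4)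
and helper59 (`s1417_of_pieces`) with Lemma 11.7 (`exc_normal`).  Every hypothesis is the type of a
frozen statement with a smaller number.
-/

set_option autoImplicit false

namespace Cfsg.Agent.Lib.Helper15.BG

open Cfsg

/-- Statement S1416 from S1350, S1403, S1404, S1405, S1408, S1409, S1410, S1412, S1415. -/
theorem s1416_closed {G : Type*} [Group G] [Finite G] (hG : IsMinSimpleOddOrder G)
    (h1350 : type_of% (@Cfsg.CfsgFrozen.S1350 G _ _ hG))
    (h1403 : type_of% (@Cfsg.CfsgFrozen.S1403 G _ _ hG))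
    (h1404 : type_of% (@Cfsg.CfsgFrozen.S1404 G _ _ hG))
    (h1405 : type_of% (@Cfsg.CfsgFrozen.S1405 G _ _ hG))
    (h1408 : type_of% (@Cfsg.CfsgFrozen.S1408 G _ _ hG))
    (h1409 : type_of% (@Cfsg.CfsgFrozen.S1409 G _ _ hG))
    (h1410 : type_of% (@Cfsg.CfsgFrozen.S1410 G _ _ hG))
    (h1412 : type_of% (@Cfsg.CfsgFrozen.S1412 G _ _ hG))
    (h1415 : type_of% (@Cfsg.CfsgFrozen.S1415 G _ _ hG)) :
    type_of% (@Cfsg.CfsgFrozen.S1416 G _ _ hG) := by
  intro M hM p _ A hA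
  exact Cfsg.Agent.Lib.Helper29.BG.s1416_core hG h1403 h1404 h1410
    (Cfsg.Agent.Lib.Helper29.BG.hExcUniq_of hG h1403 h1404 h1410)
    (exc_normal hG h1350 h1403 h1404 h1405 h1408 h1409 h1410 h1412 h1415) M hM p A hA

/-- Statement S1417 from S1350, S1403, S1404, S1405, S1408, S1409, S1410, S1412, S1415, S1416. -/
theorem s1417_closed {G : Type*} [Group G] [Finite G] (hG : IsMinSimpleOddOrder G)
    (h1350 : type_of% (@Cfsg.CfsgFrozen.S1350 G _ _ hG))
    (h1403 : type_of% (@Cfsg.CfsgFrozen.S1403 G _ _ hG))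
    (h1404 : type_of% (@Cfsg.CfsgFrozen.S1404 G _ _ hG))
    (h1405 : type_of% (@Cfsg.CfsgFrozen.S1405 G _ _ hG))
    (h1408 : type_of% (@Cfsg.CfsgFrozen.S1408 G _ _ hG))
    (h1409 : type_of% (@Cfsg.CfsgFrozen.S1409 G _ _ hG))
    (h1410 : type_of% (@Cfsg.CfsgFrozen.S1410 G _ _ hG))
    (h1412 : type_of% (@Cfsg.CfsgFrozen.S1412 G _ _ hG))
    (h1415 : type_of% (@Cfsg.CfsgFrozen.S1415 G _ _ hG))
    (h1416 : type_of% (@Cfsg.CfsgFrozen.S1416 G _ _ hG)) :
    type_of% (@Cfsg.CfsgFrozen.S1417 G _ _ hG) := by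
  intro M hM p _ hp A hA
  exact Cfsg.Agent.Lib.Helper59.BG.s1417_of_pieces hG h1409 h1412 h1416
    (fun L hL => (h1350 L hL).1)
    (Cfsg.Agent.Lib.Helper29.BG.sec11A_of hG h1403 h1404 h1410)
    (exc_normal hG h1350 h1403 h1404 h1405 h1408 h1409 h1410 h1412 h1415) M hM p hp A hA

end Cfsg.Agent.Lib.Helper15.BG
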